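import Groth.Prelude.Def_QuotSh
import Groth.Agent.Lib.AlgSpace.Quot
import Groth.Agent.Lib.Bootstrap.EquivRel
import Groth.Agent.Lib.DescAlg.Effective.Immersion
import Groth.Agent.Lib.DescAlg.Descends

/-!
Sections of the fpqc quotient sheaf of an equivalence relation with immersive graph are the stable
subschemes of `U ⊗ T`.
-/

set_option autoImplicit false
set_option backward.isDefEq.respectTransparency false
set_option backward.isDefEq.respectTransparency.types false

universe u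

open CategoryTheory CategoryTheory.Limits AlgebraicGeometry MonoidalCategory Opposite
open CartesianMonoidalCategory

namespace Groth.Agent.Lib.QuotFpqc

variable {S : Scheme.{u}}

/-- The fpqc topology on schemes over `S`. -/
abbrev J (S : Scheme.{u}) : GrothendieckTopology (Over S) := QuotSh.J Scheme.fpqcPrecoverage S

/-- The representable sheaf. -/
noncomputable abbrev rep (V : Over S) := QuotSh.rep Scheme.fpqcPrecoverage V

/-- The comparison with Mathlib's representable sheaf. -/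
noncomputable abbrev repIso (V : Over S) : rep V ≅ (J S).uliftYoneda.{u + 1}.obj V :=
  QuotSh.repIsoUliftYoneda Scheme.fpqcPrecoverage V

@[reassoc]
theorem repMap_repIso_hom {V W : Over S} (g : V ⟶ W) :
    QuotSh.repMap Scheme.fpqcPrecoverage g ≫ (repIso W).hom =
      (repIso V).hom ≫ (J S).uliftYoneda.{u + 1}.map g :=
  (sheafificationNatIso (J S) (Type (u + 1))).inv.naturality ((J S).uliftYoneda.{u + 1}.map g)

@[reassoc]
theorem repIso_inv_repMap {V W : Over S} (g : V ⟶ W) :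
    (repIso V).inv ≫ QuotSh.repMap Scheme.fpqcPrecoverage g =
      (J S).uliftYoneda.{u + 1}.map g ≫ (repIso W).inv := by
  rw [Iso.inv_comp_eq, ← repMap_repIso_hom_assoc, Iso.hom_inv_id, Category.comp_id]

variable {Q : QuotSh.Sh Scheme.fpqcPrecoverage S}

/-- The section corresponding to a morphism out of a representable sheaf. -/
noncomputable def el {W : Over S} (φ : rep W ⟶ Q) : Q.obj.obj (op W) :=
  (J S).uliftYonedaEquiv.{u + 1} ((repIso W).inv ≫ φ)

theorem el_injective {W : Over S} {φ ψ : rep W ⟶ Q} (h : el φ = el ψ) : φ = ψ :=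
  (cancel_epi _).1 ((J S).uliftYonedaEquiv.{u + 1}.injective h)

theorem el_repMap {V W : Over S} (g : V ⟶ W) (φ : rep W ⟶ Q) :
    el (QuotSh.repMap Scheme.fpqcPrecoverage g ≫ φ) = Q.obj.map g.op (el φ) := by
  rw [el, repIso_inv_repMap_assoc]
  exact ((J S).uliftYonedaEquiv_naturality _ g).symm

theorem repMap_comp {V W X : Over S} (g : V ⟶ W) (g' : W ⟶ X) :
    QuotSh.repMap Scheme.fpqcPrecoverage (g ≫ g') =
      QuotSh.repMap Scheme.fpqcPrecoverage g ≫ QuotSh.repMap Scheme.fpqcPrecoverage g' := by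
  show (presheafToSheaf (J S) (Type (u + 1))).map _ = _
  rw [Functor.map_comp, Functor.whiskerRight_comp, Functor.map_comp]

section Quot

variable {R U : Over S} {s t : R ⟶ U}

theorem isPullback_rep (h : AlgSp.IsEqvRel s t) :
    IsPullback (QuotSh.repMap Scheme.fpqcPrecoverage t) (QuotSh.repMap Scheme.fpqcPrecoverage s)
      (QuotSh.quotπ Scheme.fpqcPrecoverage s t) (QuotSh.quotπ Scheme.fpqcPrecoverage s t) := by
  let G : ((Over S)ᵒᵖ ⥤ Type (u + 1)) ⥤ QuotSh.Sh Scheme.fpqcPrecoverage S :=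
    presheafToSheaf (J S) (Type (u + 1))
  let e := coequalizerComparison (AlgSpace.preMap s) (AlgSpace.preMap t) G
  have he : QuotSh.quotπ Scheme.fpqcPrecoverage s t ≫ e =
      G.map (coequalizer.π (AlgSpace.preMap s) (AlgSpace.preMap t)) :=
    ι_comp_coequalizerComparison (AlgSpace.preMap s) (AlgSpace.preMap t) G
  refine ((AlgSpace.isPullback_pre h).map G).of_iso (Iso.refl _) (Iso.refl _) (Iso.refl _)
    (asIso e).symm (by simp [G]) (by simp [G]) ?_ ?_
  · rw [← he]
    simp [G]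
  · rw [← he]
    simp [G]

theorem exists_rel_of_repMap_eq (h : AlgSp.IsEqvRel s t) {W : Over S} {a b : W ⟶ U}
    (e : QuotSh.repMap Scheme.fpqcPrecoverage a ≫ QuotSh.quotπ Scheme.fpqcPrecoverage s t =
      QuotSh.repMap Scheme.fpqcPrecoverage b ≫ QuotSh.quotπ Scheme.fpqcPrecoverage s t) :
    ∃ r : W ⟶ R, r ≫ s = a ∧ r ≫ t = b := by
  obtain ⟨l, hl1, hl2⟩ := (isPullback_rep h).exists_lift _ _ e.symm
  let r : W ⟶ R := (J S).uliftYoneda.{u + 1}.preimage ((repIso W).inv ≫ l ≫ (repIso R).hom)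
  have key : ∀ (x : R ⟶ U) (y : W ⟶ U),
      l ≫ QuotSh.repMap Scheme.fpqcPrecoverage x = QuotSh.repMap Scheme.fpqcPrecoverage y →
        r ≫ x = y := fun x y hxy => by
    refine (J S).uliftYoneda.{u + 1}.map_injective ?_
    rw [Functor.map_comp, Functor.map_preimage, Category.assoc, Category.assoc,
      ← repMap_repIso_hom, reassoc_of% hxy, repMap_repIso_hom, Iso.inv_hom_id_assoc]
  exact ⟨r, key s a hl2, key t b hl1⟩

theorem repMap_eq_of_rel {W : Over S} {a b : W ⟶ U} {r : W ⟶ R} (ha : r ≫ s = a) (hb : r ≫ t = b) :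
    QuotSh.repMap Scheme.fpqcPrecoverage a ≫ QuotSh.quotπ Scheme.fpqcPrecoverage s t =
      QuotSh.repMap Scheme.fpqcPrecoverage b ≫ QuotSh.quotπ Scheme.fpqcPrecoverage s t := by
  rw [← ha, ← hb, repMap_comp, repMap_comp, Category.assoc, Category.assoc, QuotSh.quot_condition]

variable {T : Over S} (σ : rep T ⟶ QuotSh.quot Scheme.fpqcPrecoverage s t)

/-- A point of `U ⊗ T` whose `U`-component induces the section `σ`. -/
def Good {W : Over S} (x : W ⟶ U ⊗ T) : Prop :=
  QuotSh.repMap Scheme.fpqcPrecoverage (x ≫ fst U T) ≫ QuotSh.quotπ Scheme.fpqcPrecoverage s t =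
    QuotSh.repMap Scheme.fpqcPrecoverage (x ≫ snd U T) ≫ σ

theorem good_comp {V W : Over S} (g : V ⟶ W) {x : W ⟶ U ⊗ T} (hx : Good σ x) :
    Good σ (g ≫ x) := by
  unfold Good at hx ⊢
  rw [Category.assoc, Category.assoc, repMap_comp g, repMap_comp g, Category.assoc, Category.assoc,
    hx]

theorem good_of_cover {W : Over S} {Sv : Sieve W} (hSv : Sv ∈ J S W) {x : W ⟶ U ⊗ T}
    (hx : ∀ ⦃V : Over S⦄ (g : V ⟶ W), Sv g → Good σ (g ≫ x)) : Good σ x := by
  refine el_injective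
    ((((isSheaf_iff_isSheaf_of_type _ _).1 (QuotSh.quot Scheme.fpqcPrecoverage s t).property)
      Sv hSv).isSeparatedFor.ext fun V g hg => ?_)
  have := hx g hg
  unfold Good at this
  rw [Category.assoc, Category.assoc, repMap_comp g, repMap_comp g, Category.assoc, Category.assoc]
    at this
  rw [← el_repMap, ← el_repMap, this]

theorem exists_cover_good :
    ∃ Sv ∈ J S T, ∀ ⦃V : Over S⦄ (g : V ⟶ T), Sv g → ∃ a : V ⟶ U, Good σ (lift a g) := by
  let F := QuotSh.quot Scheme.fpqcPrecoverage s t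
  let φ : (J S).uliftYoneda.{u + 1}.obj U ⟶ F :=
    (repIso U).inv ≫ QuotSh.quotπ Scheme.fpqcPrecoverage s t
  haveI : Epi (QuotSh.quotπ Scheme.fpqcPrecoverage s t) := coequalizer.π_epi
  haveI : Epi φ := epi_comp _ _
  haveI : Sheaf.IsLocallySurjective φ :=
    (Sheaf.isLocallySurjective_iff_epi' (Type (u + 1)) φ).2 inferInstance
  refine ⟨_, Presheaf.imageSieve_mem (J S) φ.hom (el σ), fun V g hg => ?_⟩
  obtain ⟨a, ha⟩ := hg
  refine ⟨a.down, el_injective ?_⟩
  rw [lift_fst, lift_snd, el_repMap g σ]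
  refine Eq.trans ?_ ha
  have h1 : (J S).uliftYonedaEquiv.{u + 1} ((J S).uliftYoneda.{u + 1}.map a.down ≫ φ) =
      φ.hom.app (op V) a := by
    rw [GrothendieckTopology.uliftYonedaEquiv_comp, GrothendieckTopology.uliftYonedaEquiv_uliftYoneda_map]
    rfl
  rw [el, repIso_inv_repMap_assoc]
  exact h1

end Quot

section Sites

/-- A covering sieve of the fpqc site contains a small fpqc covering family. -/
theorem exists_family {T : Over S} {Sv : Sieve T} (hSv : Sv ∈ J S T) :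
    ∃ (ι : Type u) (X : ι → Scheme.{u}) (f : ∀ i, X i ⟶ T.left),
      Presieve.ofArrows X f ∈ Scheme.fpqcPrecoverage T.left ∧
      ∀ i, Sv (Over.homMk (f i) : Over.mk (f i ≫ T.hom) ⟶ T) := by
  rw [GrothendieckTopology.mem_over_iff,
    Precoverage.mem_toGrothendieck_iff_of_isStableUnderComposition] at hSv
  obtain ⟨P, hP, hle⟩ := hSv
  obtain ⟨E, rfl⟩ := Precoverage.mem_iff_exists_zeroHypercover.1 hP
  haveI : Precoverage.Small.{u} Scheme.fpqcPrecoverage.{u} :=
    inferInstanceAs (Precoverage.Small.{u} (Scheme.propQCPrecoverage @Flat))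
  refine ⟨_, _, _, (Precoverage.ZeroHypercover.restrictIndexOfSmall.{u} E).mem₀, fun i => ?_⟩
  exact (Sieve.overEquiv_iff Sv _).1 (hle _ _ ⟨_⟩)

/-- The sieve of maps factoring locally through an fpqc family of the underlying scheme. -/
def familySieve (T : Over S) {ι : Type u} {X : ι → Scheme.{u}} (f : ∀ i, X i ⟶ T.left) : Sieve T :=
  (Sieve.overEquiv T).symm (Sieve.generate (Presieve.ofArrows X f))

theorem familySieve_mem (T : Over S) {ι : Type u} {X : ι → Scheme.{u}} {f : ∀ i, X i ⟶ T.left}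
    (hf : Presieve.ofArrows X f ∈ Scheme.fpqcPrecoverage T.left) : familySieve T f ∈ J S T := by
  rw [GrothendieckTopology.mem_over_iff, show Sieve.overEquiv T (familySieve T f) =
    Sieve.generate (Presieve.ofArrows X f) from (Sieve.overEquiv T).apply_symm_apply _]
  exact Precoverage.generate_mem_toGrothendieck hf

theorem of_familySieve {T W : Over S} {ι : Type u} {X : ι → Scheme.{u}} {f : ∀ i, X i ⟶ T.left}
    {g : W ⟶ T} (hg : familySieve T f g) : ∃ (i : ι) (a : W.left ⟶ X i), a ≫ f i = g.left := by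
  rw [familySieve, Sieve.overEquiv_symm_iff] at hg
  obtain ⟨Y, a, _, ⟨i⟩, ha⟩ := hg
  exact ⟨i, a, ha⟩

/-- Morphisms to a monomorphism may be constructed on a covering sieve. -/
theorem exists_lift_of_cover {Z P W : Over S} (i : Z ⟶ P) [Mono i] (x : W ⟶ P) {Sv : Sieve W}
    (hSv : Sv ∈ J S W) (h : ∀ ⦃V : Over S⦄ (g : V ⟶ W), Sv g → ∃ z : V ⟶ Z, z ≫ i = g ≫ x) :
    ∃ z : W ⟶ Z, z ≫ i = x := by
  have hs : ∀ A : Over S, Presieve.IsSheafFor (yoneda.obj A) Sv.arrows := fun A =>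
    (GrothendieckTopology.Subcanonical.isSheaf_of_isRepresentable (J := J S) _) Sv hSv
  choose z hz using h
  let fam : Presieve.FamilyOfElements (yoneda.obj Z) Sv.arrows := fun V g hg => z g hg
  have hc : fam.Compatible := fun V₁ V₂ V g₁ g₂ f₁ f₂ h₁ h₂ e => by
    refine (cancel_mono i).1 ?_
    show (g₁ ≫ z f₁ h₁) ≫ i = (g₂ ≫ z f₂ h₂) ≫ i
    rw [Category.assoc, Category.assoc, hz, hz, reassoc_of% e]
  obtain ⟨l, hl, -⟩ := hs Z fam hc
  refine ⟨l, (hs P).isSeparatedFor.ext fun V g hg => ?_⟩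
  show g ≫ l ≫ i = g ≫ x
  rw [← Category.assoc, show g ≫ l = z g hg from hl g hg, hz]

end Sites

theorem isPullback_whiskerLeft_left (U : Over S) {X T : Over S} (g : X ⟶ T) :
    IsPullback (U ◁ g).left (snd U X).left (snd U T).left g.left := by
  have h₁ : IsPullback (fst U T).left (snd U T).left U.hom T.hom :=
    IsPullback.of_hasPullback U.hom T.hom
  have h₂ : IsPullback (fst U X).left (snd U X).left U.hom X.hom :=
    IsPullback.of_hasPullback U.hom X.hom
  have e₁ : (U ◁ g).left ≫ (fst U T).left = (fst U X).left := by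
    rw [← Over.comp_left, whiskerLeft_fst]
  have e₂ : (U ◁ g).left ≫ (snd U T).left = (snd U X).left ≫ g.left := by
    rw [← Over.comp_left, whiskerLeft_snd, Over.comp_left]
  refine IsPullback.of_right ?_ e₂ h₁
  rw [e₁, Over.w g]
  exact h₂

theorem mono_of_left {A B : Over S} (i : A ⟶ B) [Mono i.left] : Mono i :=
  (Over.forget S).mono_of_mono_map (inferInstanceAs (Mono i.left))

theorem fpqcCover_of_isPullback {X Y : Scheme.{u}} {ι : Type u} {Z P : ι → Scheme.{u}}
    (g : X ⟶ Y) (f : ∀ i, Z i ⟶ Y) (m : ∀ i, P i ⟶ X) (n : ∀ i, P i ⟶ Z i)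
    (h : ∀ i, IsPullback (m i) (n i) g (f i))
    (hf : Presieve.ofArrows Z f ∈ Scheme.fpqcPrecoverage Y) :
    Presieve.ofArrows P m ∈ Scheme.fpqcPrecoverage X :=
  by
  have e₁ : Presieve.ofArrows (fun i : ULift.{u + 1} ι => Z i.down) (fun i => f i.down) =
      Presieve.ofArrows Z f := Presieve.ofArrows_comp_eq_of_surjective f ULift.down_surjective
  have e₂ : Presieve.ofArrows (fun i : ULift.{u + 1} ι => P i.down) (fun i => m i.down) =
      Presieve.ofArrows P m := Presieve.ofArrows_comp_eq_of_surjective m ULift.down_surjective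
  rw [← e₁] at hf
  rw [← e₂]
  exact Precoverage.IsStableUnderBaseChange.mem_coverings_of_isPullback _ hf g _
    (fun i => n i.down) fun i => h i.down

section Main

variable {R U T : Over S} {s t : R ⟶ U} [IsEquivalenceRelation s t]
  (P : MorphismProperty Scheme.{u}) [P.IsStableUnderBaseChange] [IsZariskiLocalAtTarget P]
  (hmono : ∀ ⦃X Y : Scheme.{u}⦄ (f : X ⟶ Y), P f → Mono f)
  (hdesc : P.DescendsAlong (@Surjective ⊓ @Flat ⊓ @QuasiCompact : MorphismProperty Scheme.{u}))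
  (heff : ∀ {B : Scheme.{u}} {ι : Type u} {X : ι → Scheme.{u}} {f : ∀ i, X i ⟶ B},
    Presieve.ofArrows X f ∈ Scheme.fpqcPrecoverage B → ∀ D : Desc.SchDDFam f,
      (∀ i, P (D.obj i).hom) → D.IsEffective)

include hmono in
theorem exists_lift_iff_good [Mono (lift t s)] (σ : rep T ⟶ QuotSh.quot Scheme.fpqcPrecoverage s t)
    {X : Over S} (g : X ⟶ T) (a : X ⟶ U) (ha : Good σ (lift a g)) (hP : P (lift t s).left)
    {W : Scheme.{u}} (x : W ⟶ (U ⊗ X).left) :
    Nonempty (Desc.Lifts (Over.mk (pullback.snd (lift t s).left (U ◁ a).left)) x) ↔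
      Good σ ((Over.homMk x : Over.mk (x ≫ (U ⊗ X).hom) ⟶ U ⊗ X) ≫ U ◁ g) := by
  let y : Over.mk (x ≫ (U ⊗ X).hom) ⟶ U ⊗ X := Over.homMk x
  show _ ↔ Good σ (y ≫ U ◁ g)
  have h1 : (y ≫ U ◁ g) ≫ fst U T = y ≫ fst U X := by simp
  have h2 : (y ≫ U ◁ g) ≫ snd U T = (y ≫ snd U X) ≫ g := by simp
  have h3 : QuotSh.repMap Scheme.fpqcPrecoverage ((y ≫ snd U X) ≫ g) ≫ σ =
      QuotSh.repMap Scheme.fpqcPrecoverage ((y ≫ snd U X) ≫ a) ≫
        QuotSh.quotπ Scheme.fpqcPrecoverage s t := by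
    have := good_comp σ (y ≫ snd U X) ha
    unfold Good at this
    rw [Category.assoc (y ≫ snd U X) (lift a g), Category.assoc (y ≫ snd U X) (lift a g),
      lift_fst, lift_snd] at this
    exact this.symm
  unfold Good
  rw [h1, h2, h3]
  constructor
  · rintro ⟨v, hv⟩
    have hv' : (v ≫ pullback.fst (lift t s).left (U ◁ a).left) ≫ (lift t s).left =
        x ≫ (U ◁ a).left := by
      have hv2 : v ≫ pullback.snd (lift t s).left (U ◁ a).left = x := hv
      rw [Category.assoc, pullback.condition, reassoc_of% hv2]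
    let r : Over.mk (x ≫ (U ⊗ X).hom) ⟶ R :=
      Over.homMk (v ≫ pullback.fst (lift t s).left (U ◁ a).left) (by
        have := congrArg (· ≫ (U ⊗ U).hom) hv'
        simpa [Over.w (lift t s), Over.w (U ◁ a)] using this)
    have hr : r ≫ lift t s = y ≫ U ◁ a := Over.OverMorphism.ext hv'
    have hrt : r ≫ t = y ≫ fst U X := by
      have := congrArg (· ≫ fst U U) hr
      simpa using this
    have hrs : r ≫ s = (y ≫ snd U X) ≫ a := by
      have := congrArg (· ≫ snd U U) hr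
      simpa using this
    exact (repMap_eq_of_rel hrs hrt).symm
  · intro h
    obtain ⟨r, hrt, hrs⟩ := exists_rel_of_repMap_eq
      (Bootstrap.isEqvRel_of_equivalenceRelation s t) h.symm
    have hr : r ≫ lift t s = y ≫ U ◁ a := by
      apply hom_ext <;> simp [hrt, hrs]
    exact ⟨pullback.lift r.left x (congrArg CommaMorphism.left hr), pullback.lift_snd _ _ _⟩

include hmono hdesc heff in
theorem exists_stable [Flat s.left] [Surjective s.left] [QuasiCompact s.left]
    (hP : P (lift t s).left) (σ : rep T ⟶ QuotSh.quot Scheme.fpqcPrecoverage s t) :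
    ∃ (Z : Over S) (i : Z ⟶ U ⊗ T), P i.left ∧
      (∀ (W : Over S) (x : W ⟶ U ⊗ T), (∃ z : W ⟶ Z, z ≫ i = x) ↔ Good σ x) ∧
      Flat (i ≫ snd U T).left ∧ Surjective (i ≫ snd U T).left ∧
      QuasiCompact (i ≫ snd U T).left := by
  haveI : Mono (lift t s).left := hmono _ hP
  haveI : Mono (lift t s) := mono_of_left _
  obtain ⟨Sv, hSv, hgood⟩ := exists_cover_good σ
  obtain ⟨ι, X, f, hf, hmem⟩ := exists_family hSv
  let X' : ι → Over S := fun j => Over.mk (f j ≫ T.hom)
  let g : ∀ j, X' j ⟶ T := fun j => Over.homMk (f j)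
  choose a ha using fun j => hgood (g j) (hmem j)
  let m : ∀ j, (U ⊗ X' j).left ⟶ (U ⊗ T).left := fun j => (U ◁ g j).left
  have hsq : ∀ j, IsPullback (m j) (snd U (X' j)).left (snd U T).left (f j) := fun j =>
    isPullback_whiskerLeft_left U (g j)
  have hm : Presieve.ofArrows (fun j => (U ⊗ X' j).left) m ∈
      Scheme.fpqcPrecoverage (U ⊗ T).left :=
    fpqcCover_of_isPullback _ f m _ hsq hf
  let Ob : ∀ j, Over (U ⊗ X' j).left := fun j =>
    Over.mk (pullback.snd (lift t s).left (U ◁ a j).left)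
  have hOb : ∀ j, P (Ob j).hom := fun j => P.pullback_snd _ _ hP
  have hsub : ∀ (j : ι) {W : Scheme.{u}} (x : W ⟶ (U ⊗ X' j).left),
      Subsingleton (Desc.Lifts (Ob j) x) := fun j W x => ⟨fun v w => by
    haveI : Mono (Ob j).hom := hmono _ (hOb j)
    exact Subtype.ext ((cancel_mono (Ob j).hom).1 (v.2.trans w.2.symm))⟩
  have hkey : ∀ ⦃W : Scheme.{u}⦄ ⦃j k : ι⦄ (x₀ : W ⟶ (U ⊗ X' j).left) (x₁ : W ⟶ (U ⊗ X' k).left),
      x₀ ≫ m j = x₁ ≫ m k → Nonempty (Desc.Lifts (Ob j) x₀) →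
        Nonempty (Desc.Lifts (Ob k) x₁) := fun W j k x₀ x₁ e hv => by
    have h0 := (exists_lift_iff_good P hmono σ (g j) (a j) (ha j) hP x₀).1 hv
    refine (exists_lift_iff_good P hmono σ (g k) (a k) (ha k) hP x₁).2 ?_
    let c : Over.mk (x₁ ≫ (U ⊗ X' k).hom) ⟶ Over.mk (x₀ ≫ (U ⊗ X' j).hom) :=
      Over.homMk (𝟙 W) (by
        show 𝟙 W ≫ x₀ ≫ (U ⊗ X' j).hom = x₁ ≫ (U ⊗ X' k).hom
        rw [Category.id_comp, ← Over.w (U ◁ g j), ← Over.w (U ◁ g k), reassoc_of% e])
    convert good_comp σ c h0 using 1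
    apply Over.OverMorphism.ext
    show x₁ ≫ m k = 𝟙 W ≫ x₀ ≫ m j
    rw [Category.id_comp, e]
  let D : Desc.SchDDFam m :=
    { obj := Ob
      φ := fun W j k x₀ x₁ e =>
        { toFun := fun v => (hkey x₀ x₁ e ⟨v⟩).some
          invFun := fun v => (hkey x₁ x₀ e.symm ⟨v⟩).some
          left_inv := fun v => (hsub j x₀).elim _ _
          right_inv := fun v => (hsub k x₁).elim _ _ }
      φ_natural := fun W W' c j k x₀ x₁ h y₀ y₁ h0 h1 h' v v' _ => by
        haveI : Mono (Ob k).hom := hmono _ (hOb k)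
        refine (cancel_mono (Ob k).hom).1 ?_
        rw [Category.assoc]
        exact ((hkey y₀ y₁ h' ⟨v'⟩).some.2.trans h1.symm).trans
          (congrArg (c ≫ ·) (hkey x₀ x₁ h ⟨v⟩).some.2).symm
      φ_self := fun W j x v => (hsub j x).elim _ _
      φ_comp := fun W j k l x₀ x₁ x₂ h h' v => (hsub l x₂).elim _ _ }
  obtain ⟨V, ⟨e⟩⟩ := heff hm D hOb
  let eI : ∀ j, pullback (m j) V.hom ≅ (Ob j).left := fun j =>
    { hom := (e.hom.hom j).left
      inv := (e.inv.hom j).left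
      hom_inv_id := congrArg (fun q => (Desc.SchDDFam.Hom.hom q j).left) e.hom_inv_id
      inv_hom_id := congrArg (fun q => (Desc.SchDDFam.Hom.hom q j).left) e.inv_hom_id }
  have heI : ∀ j, (eI j).hom ≫ (Ob j).hom = pullback.fst (m j) V.hom := fun j =>
    Over.w (e.hom.hom j)
  have hV : ∀ j, IsPullback ((eI j).inv ≫ pullback.snd (m j) V.hom) (Ob j).hom V.hom (m j) :=
    fun j => IsPullback.of_iso (IsPullback.of_hasPullback (m j) V.hom).flip (eI j) (Iso.refl _)
      (Iso.refl _) (Iso.refl _) (by simp) (by simp [heI]) (by simp) (by simp)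
  let E : PreZeroHypercover (U ⊗ T).left := ⟨ι, fun j => (U ⊗ X' j).left, m⟩
  haveI : QuasiCompactCover E := Scheme.presieve₀_mem_qcPrecoverage_iff.1 hm.1
  have hPV : P V.hom := DescAlg.FpqcCover.of_fpqcCover P hdesc V.hom E
    (fun j => DescAlg.Effective.Fpqc.flat_member hm j)
    fun j => by
      show P (pullback.snd V.hom (m j))
      rw [← (hV j).isoPullback_inv_snd]
      exact (P.cancel_left_of_respectsIso _ _).2 (hOb j)
  let Z : Over S := Over.mk (V.hom ≫ (U ⊗ T).hom)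
  let i : Z ⟶ U ⊗ T := Over.homMk V.hom
  haveI : Mono i.left := hmono _ hPV
  haveI : Mono i := mono_of_left _
  have hchar : ∀ (W : Over S) (x : W ⟶ U ⊗ T), (∃ z : W ⟶ Z, z ≫ i = x) ↔ Good σ x := by
    intro W x
    have hcov : (familySieve (U ⊗ T) m).pullback x ∈ J S W :=
      (J S).pullback_stable x (familySieve_mem _ hm)
    have hloc : ∀ ⦃W' : Over S⦄ (c : W' ⟶ W), (familySieve (U ⊗ T) m).pullback x c →
        ((∃ z : W' ⟶ Z, z ≫ i = c ≫ x) ↔ Good σ (c ≫ x)) := fun W' c hc => by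
      obtain ⟨j, b, hb⟩ := of_familySieve hc
      let c' : W' ⟶ Over.mk (b ≫ (U ⊗ X' j).hom) := Over.homMk (𝟙 _) (by
        show 𝟙 _ ≫ b ≫ (U ⊗ X' j).hom = W'.hom
        rw [Category.id_comp, ← Over.w (U ◁ g j), reassoc_of% hb, Over.w])
      let c'' : Over.mk (b ≫ (U ⊗ X' j).hom) ⟶ W' := Over.homMk (𝟙 _) (by
        show 𝟙 _ ≫ W'.hom = b ≫ (U ⊗ X' j).hom
        rw [Category.id_comp, ← Over.w (U ◁ g j), reassoc_of% hb, Over.w])
      have hy : (Over.homMk b : Over.mk (b ≫ (U ⊗ X' j).hom) ⟶ U ⊗ X' j) ≫ U ◁ g j =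
          c'' ≫ c ≫ x := by
        apply Over.OverMorphism.ext
        exact hb.trans (Category.id_comp _).symm
      have hy' : c ≫ x =
          c' ≫ (Over.homMk b : Over.mk (b ≫ (U ⊗ X' j).hom) ⟶ U ⊗ X' j) ≫ U ◁ g j := by
        apply Over.OverMorphism.ext
        exact hb.symm.trans (Category.id_comp _).symm
      have hiff := exists_lift_iff_good P hmono σ (g j) (a j) (ha j) hP b
      constructor
      · rintro ⟨z, hz⟩
        have hz' : b ≫ m j = z.left ≫ V.hom :=
          hb.trans (congrArg CommaMorphism.left hz).symm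
        have h0 := hiff.1 ⟨⟨pullback.lift b z.left hz' ≫ (eI j).hom, by
          show _ ≫ (Ob j).hom = b
          rw [Category.assoc, heI, pullback.lift_fst]⟩⟩
        rw [hy']
        exact good_comp σ c' h0
      · intro h
        obtain ⟨v, hv⟩ := hiff.2 (hy.symm ▸ good_comp σ c'' h)
        have hv' : (v ≫ (eI j).inv ≫ pullback.snd (m j) V.hom) ≫ V.hom = (c ≫ x).left := by
          rw [Category.assoc, (hV j).w, reassoc_of% hv, hb]
        exact ⟨Over.homMk (v ≫ (eI j).inv ≫ pullback.snd (m j) V.hom) (by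
          show _ ≫ V.hom ≫ (U ⊗ T).hom = W'.hom
          rw [← Category.assoc, hv', Over.w]), Over.OverMorphism.ext hv'⟩
    constructor
    · rintro ⟨z, rfl⟩
      exact good_of_cover σ hcov fun W' c hc => (hloc c hc).1 ⟨c ≫ z, Category.assoc _ _ _⟩
    · exact fun hx => exists_lift_of_cover i x hcov fun W' c hc =>
        (hloc c hc).2 (good_comp σ c hx)
  have hp : ∀ (P' : MorphismProperty Scheme.{u}) [P'.IsStableUnderBaseChange]
      [IsZariskiLocalAtTarget P'],
      P'.DescendsAlong (@Surjective ⊓ @Flat ⊓ @QuasiCompact : MorphismProperty Scheme.{u}) →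
      P' s.left → P' (i ≫ snd U T).left := fun P' _ _ hd hs => by
    let E' : PreZeroHypercover T.left := ⟨ι, X, f⟩
    haveI : QuasiCompactCover E' := Scheme.presieve₀_mem_qcPrecoverage_iff.1 hf.1
    refine DescAlg.FpqcCover.of_fpqcCover P' hd _ E'
      (fun j => DescAlg.Effective.Fpqc.flat_member hf j) fun j => ?_
    show P' (pullback.snd (i ≫ snd U T).left (f j))
    have h1 : IsPullback ((eI j).inv ≫ pullback.snd (m j) V.hom)
        ((Ob j).hom ≫ (snd U (X' j)).left) (i ≫ snd U T).left (f j) :=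
      (hV j).paste_vert (hsq j)
    have h2 : IsPullback (pullback.fst (lift t s).left (U ◁ a j).left)
        (pullback.snd (lift t s).left (U ◁ a j).left ≫ (snd U (X' j)).left) s.left (a j).left := by
      have := (IsPullback.of_hasPullback (lift t s).left (U ◁ a j).left).paste_vert
        (isPullback_whiskerLeft_left U (a j))
      rwa [← Over.comp_left, lift_snd] at this
    rw [← h1.isoPullback_inv_snd]
    exact (P'.cancel_left_of_respectsIso _ _).2 (P'.of_isPullback h2 hs)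
  exact ⟨Z, i, hPV, hchar, hp @Flat inferInstance ‹_›, hp @Surjective inferInstance ‹_›,
    hp @QuasiCompact inferInstance ‹_›⟩

theorem stable_iff_good (σ : rep T ⟶ QuotSh.quot Scheme.fpqcPrecoverage s t) (W : Over S)
    (r : W ⟶ R ⊗ T) : Good σ (r ≫ s ▷ T) ↔ Good σ (r ≫ t ▷ T) := by
  have h1 : ∀ x : R ⟶ U, (r ≫ x ▷ T) ≫ fst U T = (r ≫ fst R T) ≫ x := fun x => by simp
  have h2 : ∀ x : R ⟶ U, (r ≫ x ▷ T) ≫ snd U T = r ≫ snd R T := fun x => by simp
  unfold Good
  rw [h1, h1, h2, h2, repMap_eq_of_rel (r := r ≫ fst R T) rfl rfl]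

include hmono in
theorem lift_iff_good (σ : rep T ⟶ QuotSh.quot Scheme.fpqcPrecoverage s t) {Z : Over S}
    (i : Z ⟶ U ⊗ T) (hi : P i.left)
    (hst : ∀ (W : Over S) (r : W ⟶ R ⊗ T),
      (∃ z : W ⟶ Z, z ≫ i = r ≫ s ▷ T) ↔ (∃ z : W ⟶ Z, z ≫ i = r ≫ t ▷ T))
    [Flat (i ≫ snd U T).left] [Surjective (i ≫ snd U T).left] [QuasiCompact (i ≫ snd U T).left]
    (hσ : Good σ i) (W : Over S) (x : W ⟶ U ⊗ T) :
    (∃ z : W ⟶ Z, z ≫ i = x) ↔ Good σ x := by
  haveI : Mono i.left := hmono _ hi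
  haveI : Mono i := mono_of_left _
  refine ⟨fun ⟨z, hz⟩ => hz ▸ good_comp σ z hσ, fun hx => ?_⟩
  let p : Z ⟶ T := i ≫ snd U T
  haveI : Flat p.left := ‹_›
  haveI : Surjective p.left := ‹_›
  haveI : QuasiCompact p.left := ‹_›
  have hf : Presieve.ofArrows (fun _ : PUnit.{u + 1} => Z.left) (fun _ => p.left) ∈
      Scheme.fpqcPrecoverage T.left := by
    rw [Presieve.ofArrows_pUnit]
    exact p.left.singleton_mem_fpqcPrecoverage
  refine exists_lift_of_cover i x
    ((J S).pullback_stable (x ≫ snd U T) (familySieve_mem T hf)) fun W' c hc => ?_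
  obtain ⟨-, b, hb⟩ := of_familySieve hc
  let z : W' ⟶ Z := Over.homMk b (by rw [← Over.w p, reassoc_of% hb, Over.w])
  have hz : z ≫ p = c ≫ x ≫ snd U T := Over.OverMorphism.ext hb
  have h1 := good_comp σ z hσ
  have h2 := good_comp σ c hx
  unfold Good at h1 h2
  rw [show (z ≫ i) ≫ snd U T = (c ≫ x) ≫ snd U T by rw [Category.assoc, Category.assoc]; exact hz]
    at h1
  obtain ⟨r, hr1, hr2⟩ := exists_rel_of_repMap_eq (Bootstrap.isEqvRel_of_equivalenceRelation s t)
    (h1.trans h2.symm)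
  obtain ⟨z', hz'⟩ := (hst W' (lift r ((c ≫ x) ≫ snd U T))).1 ⟨z, by
    apply hom_ext
    · simp [hr1]
    · simp only [Category.assoc, whiskerRight_snd, lift_snd]
      exact hz⟩
  refine ⟨z', hz'.trans ?_⟩
  apply hom_ext
  · simp [hr2]
  · simp

include hmono hdesc heff in
/-- The sections of the quotient sheaf are the stable `P`-subschemes. -/
theorem main [Flat s.left] [Surjective s.left] [QuasiCompact s.left]
    (hP : P (lift t s).left) (σ : rep T ⟶ QuotSh.quot Scheme.fpqcPrecoverage s t) :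
    (∃ (Z : Over S) (i : Z ⟶ U ⊗ T), P i.left ∧
      (∀ (T' : Over S) (r : T' ⟶ R ⊗ T),
        (∃ z : T' ⟶ Z, z ≫ i = r ≫ (s ▷ T)) ↔ (∃ z : T' ⟶ Z, z ≫ i = r ≫ (t ▷ T))) ∧
      Flat (i ≫ snd U T).left ∧ Surjective (i ≫ snd U T).left ∧
      QuasiCompact (i ≫ snd U T).left ∧
      (∀ (T' : Over S) (z₁ z₂ : T' ⟶ Z), z₁ ≫ i ≫ snd U T = z₂ ≫ i ≫ snd U T →
        ∃ r : T' ⟶ R, r ≫ s = z₁ ≫ i ≫ fst U T ∧ r ≫ t = z₂ ≫ i ≫ fst U T) ∧
      QuotSh.repMap Scheme.fpqcPrecoverage (i ≫ fst U T) ≫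
          QuotSh.quotπ Scheme.fpqcPrecoverage s t =
        QuotSh.repMap Scheme.fpqcPrecoverage (i ≫ snd U T) ≫ σ) ∧
    (∀ (Z Z' : Over S) (i : Z ⟶ U ⊗ T) (i' : Z' ⟶ U ⊗ T),
      P i.left → P i'.left →
      (∀ (T' : Over S) (r : T' ⟶ R ⊗ T),
        (∃ z : T' ⟶ Z, z ≫ i = r ≫ (s ▷ T)) ↔ (∃ z : T' ⟶ Z, z ≫ i = r ≫ (t ▷ T))) →
      (∀ (T' : Over S) (r : T' ⟶ R ⊗ T),
        (∃ z : T' ⟶ Z', z ≫ i' = r ≫ (s ▷ T)) ↔ (∃ z : T' ⟶ Z', z ≫ i' = r ≫ (t ▷ T))) →
      Flat (i ≫ snd U T).left → Surjective (i ≫ snd U T).left →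
      QuasiCompact (i ≫ snd U T).left →
      Flat (i' ≫ snd U T).left → Surjective (i' ≫ snd U T).left →
      QuasiCompact (i' ≫ snd U T).left →
      Good σ i → Good σ i' →
      ∃ e : Z ≅ Z', e.hom ≫ i' = i) := by
  refine ⟨?_, fun Z Z' i i' hi hi' hst hst' h1 h2 h3 h1' h2' h3' hσ hσ' => ?_⟩
  · obtain ⟨Z, i, hi, hchar, h1, h2, h3⟩ := exists_stable P hmono hdesc heff hP σ
    have hσ : Good σ i := (hchar Z i).1 ⟨𝟙 Z, Category.id_comp i⟩
    refine ⟨Z, i, hi, fun W r => ?_, h1, h2, h3, fun W z₁ z₂ e => ?_, hσ⟩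
    · rw [hchar, hchar, stable_iff_good σ W r]
    · refine exists_rel_of_repMap_eq (Bootstrap.isEqvRel_of_equivalenceRelation s t) ?_
      have e1 := good_comp σ z₁ hσ
      have e2 := good_comp σ z₂ hσ
      unfold Good at e1 e2
      rw [Category.assoc, Category.assoc] at e1 e2
      rw [e1, e2, e]
  · haveI : Mono i.left := hmono _ hi
    haveI : Mono i := mono_of_left _
    haveI : Mono i'.left := hmono _ hi'
    haveI : Mono i' := mono_of_left _
    obtain ⟨f, hf⟩ := (lift_iff_good P hmono σ i' hi' hst' hσ' Z i).2 hσ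
    obtain ⟨f', hf'⟩ := (lift_iff_good P hmono σ i hi hst hσ Z' i').2 hσ'
    exact ⟨⟨f, f', (cancel_mono i).1 (by rw [Category.assoc, hf', hf, Category.id_comp]),
      (cancel_mono i').1 (by rw [Category.assoc, hf, hf', Category.id_comp])⟩, hf⟩

end Main

end Groth.Agent.Lib.QuotFpqc
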